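import Groth.Agent.Lib.LciH1.CM
import Groth.Agent.Lib.Fitting.Basic
import Groth.Agent.Lib.T1Base26.Ext
import Mathlib

/-!
# Jacobian presentation of a reduced complete intersection over a perfect field

`d : B^c → B^r` (Jacobian) is injective with cokernel `Ω_{B/k}`; minors of a matrix and its transpose.
-/

universe u

open TensorProduct RingTheory.Sequence
open GrothLib.Fitting

namespace GrothLib.JacExt1

variable {R : Type u} [CommRing R]

/-- The rows' span and the columns' span of a `c × r` matrix have the same `c`-minors. -/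
theorem minors_range_eq {c r : ℕ} (J : Matrix (Fin c) (Fin r) R) :
    minors (LinearMap.range J.vecMulLinear) c = minors (LinearMap.range J.mulVecLin) c := by
  refine le_antisymm (minors_le_iff.2 fun z e hz => ?_) (minors_le_iff.2 fun z e hz => ?_)
  · choose u hu using hz
    rw [← Matrix.det_transpose, show (Matrix.of fun a b => z b (e a)).transpose =
      Matrix.of u * J.submatrix id e from Matrix.ext fun b a => by
        simp [← hu b, Matrix.vecMul, dotProduct, Matrix.mul_apply], Matrix.det_mul]
    exact Ideal.mul_mem_left _ _ (det_mem_minors (fun b => J.mulVecLin (Pi.single (e b) 1)) id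
      (fun b => LinearMap.mem_range_self _ _) |> fun h => by convert h using 1; congr 1; ext i a; simp)
  · choose w hw using hz
    rw [show (Matrix.of fun a b => z b (e a)) = (1 : Matrix (Fin c) (Fin c) R).submatrix e id *
      (J * (Matrix.of w).transpose) from Matrix.ext fun a b => by
        simp [← hw b, Matrix.mulVec, dotProduct, Matrix.mul_apply, Matrix.one_apply], Matrix.det_mul]
    refine Ideal.mul_mem_left _ _ ?_
    let f : (Fin r → R) [⋀^Fin c]→ₗ[R] R :=
      Matrix.detRowAlternating.compLinearMap (Matrix.of w).mulVecLin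
    have h := apply_mem_minors (L := LinearMap.range J.vecMulLinear) f (fun i => J i)
      (fun i => ⟨Pi.single i 1, by simp; rfl⟩)
    convert h using 1
    show (J * (Matrix.of w).transpose).det = Matrix.det (fun i => (Matrix.of w).mulVec (J i))
    congr 1
    ext i b
    simp [Matrix.mul_apply, Matrix.mulVec, dotProduct, mul_comm]

variable {k : Type u} {r c : ℕ} {B : Type u}

section jac

variable [CommRing k] [CommRing B] [Algebra k B]
  (φ : MvPolynomial (Fin r) k →ₐ[k] B) (a : Fin c → MvPolynomial (Fin r) k)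

/-- The Jacobian matrix. -/
noncomputable def jac : Matrix (Fin c) (Fin r) B := fun i j => φ (MvPolynomial.pderiv j (a i))

end jac

section inj

variable [Field k] [CommRing B] [Algebra k B]
  (φ : MvPolynomial (Fin r) k →ₐ[k] B) (a : Fin c → MvPolynomial (Fin r) k)

set_option maxHeartbeats 1000000 in
theorem jac_injective [PerfectField k] [IsReduced B] (hφ : Function.Surjective φ)
    (ha : IsWeaklyRegular (MvPolynomial (Fin r) k) (List.ofFn a))
    (hker : RingHom.ker φ.toRingHom = Ideal.span (Set.range a)) :
    Function.Injective (jac φ a).vecMulLinear := by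
  rw [injective_iff_map_eq_zero]
  intro v hv
  funext i
  refine IsNilpotent.eq_zero ?_
  rw [← mem_nilradical, nilradical, ← Ideal.sInf_minimalPrimes, Ideal.mem_sInf]
  intro P hP
  haveI : P.IsPrime := hP.1.1
  haveI : Algebra.FiniteType k B := Algebra.FiniteType.of_surjective φ hφ
  haveI : Algebra.EssFiniteType B (Localization.AtPrime P) := .of_isLocalization _ P.primeCompl
  haveI : Algebra.EssFiniteType k (Localization.AtPrime P) := .comp k B _
  haveI : Ring.KrullDimLE 0 (Localization.AtPrime P) :=
    .of_isLocalization P (by simpa [minimalPrimes] using hP) _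
  letI : Field (Localization.AtPrime P) :=
    (Ring.KrullDimLE.isField_of_isReduced (R := Localization.AtPrime P)).toField
  haveI : Algebra.FormallySmooth k (Localization.AtPrime P) := .of_perfectField
  set Q := P.comap φ.toRingHom with hQ
  let L := Localization.AtPrime Q
  let K := Localization.AtPrime P
  let π : L →+* K := Localization.localRingHom Q P φ.toRingHom rfl
  letI : Algebra L K := π.toAlgebra
  haveI : IsScalarTower k L K := .of_algebraMap_eq fun x => by
    show algebraMap k K x = π (algebraMap k L x)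
    rw [IsScalarTower.algebraMap_apply k (MvPolynomial (Fin r) k) L, Localization.localRingHom_to_map,
      IsScalarTower.algebraMap_apply k B K]
    exact congrArg _ (φ.commutes x).symm
  haveI : Algebra.FormallySmooth (MvPolynomial (Fin r) k) L := .of_isLocalization Q.primeCompl
  haveI : Algebra.FormallySmooth k L := .comp k (MvPolynomial (Fin r) k) L
  have hπ : Function.Surjective (algebraMap L K) := by
    intro y
    obtain ⟨b, s, rfl⟩ := IsLocalization.exists_mk'_eq P.primeCompl y
    obtain ⟨p, rfl⟩ := hφ b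
    obtain ⟨t, ht⟩ := hφ s.1
    refine ⟨IsLocalization.mk' L p (⟨t, fun h => s.2 (ht ▸ h)⟩ : Q.primeCompl), ?_⟩
    show π _ = _
    rw [Localization.localRingHom_mk']
    congr 1
    exact Subtype.ext ht
  have hπa : ∀ p, algebraMap L K (algebraMap _ L p) = algebraMap B K (φ p) := fun p =>
    Localization.localRingHom_to_map _ _ _ _ p
  obtain ⟨l, hl⟩ := (Algebra.FormallySmooth.iff_split_injection (R := k) hπ).1 inferInstance
  have hK : RingHom.ker (algebraMap L K) = Ideal.span (Set.range (algebraMap _ L ∘ a)) := by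
    refine le_antisymm (fun y hy => ?_) (Ideal.span_le.2 ?_)
    · obtain ⟨p, s, rfl⟩ := IsLocalization.exists_mk'_eq Q.primeCompl y
      have h0 : algebraMap B K (φ p) = 0 := by
        rw [← hπa, ← IsLocalization.mk'_spec L p s, map_mul, RingHom.mem_ker.1 hy, zero_mul]
      obtain ⟨⟨b, hb⟩, hb0⟩ := (IsLocalization.map_eq_zero_iff P.primeCompl K _).1 h0
      obtain ⟨t, rfl⟩ := hφ b
      have h1 : t * p ∈ Ideal.span (Set.range a) := hker ▸ (RingHom.mem_ker.2 (by simpa using hb0))
      rw [Set.range_comp, ← Ideal.map_span, IsLocalization.mk'_mem_map_algebraMap_iff Q.primeCompl L]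
      exact ⟨t, hb, h1⟩
    · rintro _ ⟨j, rfl⟩
      have hj : φ (a j) = 0 := RingHom.mem_ker.1 (hker ▸ Ideal.subset_span ⟨j, rfl⟩ :
        a j ∈ RingHom.ker φ.toRingHom)
      rw [SetLike.mem_coe, RingHom.mem_ker, Function.comp_apply, hπa, hj, map_zero]
  have hreg : IsWeaklyRegular L (List.ofFn (algebraMap _ L ∘ a)) := by
    rw [← List.map_ofFn]
    exact ha.of_isLocalization L Q.primeCompl
  choose q hq using fun j => hφ (v j)
  set x := ∑ j, q j * a j with hx
  have hxd : ∀ n, φ (MvPolynomial.pderiv n x) = 0 := by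
    intro n
    have h1 := congrFun hv n
    simp only [Matrix.vecMulLinear_apply, Matrix.vecMul, dotProduct, Pi.zero_apply] at h1
    rw [hx, map_sum, map_sum, ← h1]
    refine Finset.sum_congr rfl fun j _ => ?_
    have hj : φ (a j) = 0 := RingHom.mem_ker.1 (hker ▸ Ideal.subset_span ⟨j, rfl⟩ :
      a j ∈ RingHom.ker φ.toRingHom)
    rw [Derivation.leibniz, smul_eq_mul, smul_eq_mul, map_add, map_mul, map_mul, hj, hq, zero_mul, add_zero]
    rfl
  have hxK : algebraMap _ L x ∈ RingHom.ker (algebraMap L K) := by
    rw [hK, hx, map_sum]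
    exact Ideal.sum_mem _ fun j _ => by
      rw [map_mul]; exact Ideal.mul_mem_left _ _ (Ideal.subset_span ⟨j, rfl⟩)
  have hxz : Ideal.toCotangent _ ⟨algebraMap _ L x, hxK⟩ = 0 := by
    rw [← LinearMap.id_apply (R := L) (Ideal.toCotangent _ ⟨algebraMap _ L x, hxK⟩), ← hl, LinearMap.comp_apply,
      KaehlerDifferential.kerCotangentToTensor_toCotangent]
    convert map_zero l
    show (1 : K) ⊗ₜ[L] KaehlerDifferential.D k L (algebraMap _ L x) = 0
    rw [← KaehlerDifferential.map_D k k (MvPolynomial (Fin r) k) L,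
      ← (KaehlerDifferential.mvPolynomialBasis k (Fin r)).sum_repr (KaehlerDifferential.D k _ x), map_sum,
      TensorProduct.tmul_sum]
    refine Finset.sum_eq_zero fun n _ => ?_
    rw [map_smul, ← IsScalarTower.algebraMap_smul L, TensorProduct.tmul_smul, TensorProduct.smul_tmul',
      Algebra.smul_def, mul_one, hπa, KaehlerDifferential.mvPolynomialBasis_repr_apply, hxd, map_zero,
      TensorProduct.zero_tmul]
  rw [Ideal.toCotangent_eq_zero, pow_two] at hxz
  replace hxz : algebraMap (MvPolynomial (Fin r) k) L x ∈ Ideal.span (Set.range (algebraMap _ L ∘ a)) *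
      Ideal.span (Set.range (algebraMap _ L ∘ a)) := hK ▸ hxz
  obtain ⟨b, hb, hb'⟩ : ∃ b : Fin c → L, (∀ j, b j ∈ Ideal.span (Set.range (algebraMap _ L ∘ a))) ∧
      algebraMap _ L x = ∑ j, b j * (algebraMap _ L ∘ a) j := by
    refine Submodule.mul_induction_on hxz (fun u hu d hd => ?_) ?_
    · obtain ⟨b, hb⟩ := Ideal.mem_span_range_iff_exists_fun.1 hd
      exact ⟨fun j => u * b j, fun j => Ideal.mul_mem_right _ _ hu,
        by simp only [← hb, Finset.mul_sum, mul_assoc]; exact Finset.mul_sum ..⟩
    · rintro w w' ⟨b, hb, rfl⟩ ⟨b', hb', rfl⟩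
      exact ⟨b + b', fun j => add_mem (hb j) (hb' j), by simp [add_mul, Finset.sum_add_distrib]⟩
  have h := GrothLib.LciH1.mem_of_relation (algebraMap _ L ∘ a) hreg (fun j => algebraMap _ L (q j) - b j) (by
    simp only [sub_mul, Finset.sum_sub_distrib, Function.comp_apply, ← map_mul, ← map_sum, ← hx] at hb' ⊢
    rw [hb', sub_self]) i
  have h2 := add_mem h (hb i)
  rw [sub_add_cancel, ← hK, RingHom.mem_ker, hπa, hq] at h2
  obtain ⟨⟨s, hs⟩, hs0⟩ := (IsLocalization.map_eq_zero_iff P.primeCompl K _).1 h2
  exact (Ideal.IsPrime.mem_or_mem ‹P.IsPrime› (hs0.symm ▸ zero_mem P : s * v i ∈ P)).resolve_left hs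

end inj

section gens

variable [CommRing k] [CommRing B] [Algebra k B]
  (φ : MvPolynomial (Fin r) k →ₐ[k] B) (a : Fin c → MvPolynomial (Fin r) k)

/-- The generators `D(φ X_j)` of `Ω_{B/k}` as a linear map from `B^r`. -/
noncomputable def gens : (Fin r → B) →ₗ[B] KaehlerDifferential k B :=
  Fintype.linearCombination B fun j => KaehlerDifferential.D k B (φ (MvPolynomial.X j))

theorem D_eq_gens (p : MvPolynomial (Fin r) k) :
    KaehlerDifferential.D k B (φ p) = gens φ (fun j => φ (MvPolynomial.pderiv j p)) := by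
  letI := φ.toRingHom.toAlgebra
  haveI : IsScalarTower k (MvPolynomial (Fin r) k) B := .of_algebraMap_eq fun x => (φ.commutes x).symm
  show KaehlerDifferential.D k B (algebraMap _ B p) = _
  rw [← KaehlerDifferential.map_D k k (MvPolynomial (Fin r) k) B,
    ← (KaehlerDifferential.mvPolynomialBasis k (Fin r)).sum_repr (KaehlerDifferential.D k _ p), map_sum,
    gens, Fintype.linearCombination_apply]
  refine Finset.sum_congr rfl fun n _ => ?_
  rw [map_smul, KaehlerDifferential.mvPolynomialBasis_repr_apply, ← IsScalarTower.algebraMap_smul B]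
  congr 1
  show _ = KaehlerDifferential.D k B (algebraMap (MvPolynomial (Fin r) k) B (MvPolynomial.X n))
  rw [← KaehlerDifferential.map_D k k (MvPolynomial (Fin r) k) B]
  congr 1
  exact (KaehlerDifferential.mvPolynomialBasis k (Fin r)).repr.injective (by simp)

theorem gens_surjective (hφ : Function.Surjective φ) : Function.Surjective (gens φ) ∧
    ∀ p, KaehlerDifferential.D k B (φ p) = gens φ (fun j => φ (MvPolynomial.pderiv j p)) := by
  refine ⟨?_, D_eq_gens φ⟩
  rw [← LinearMap.range_eq_top, eq_top_iff, ← KaehlerDifferential.span_range_derivation k B, Submodule.span_le]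
  rintro _ ⟨b, rfl⟩
  obtain ⟨p, rfl⟩ := hφ b
  exact ⟨_, (D_eq_gens φ p).symm⟩

theorem jac_exact (hφ : Function.Surjective φ)
    (hker : RingHom.ker φ.toRingHom = Ideal.span (Set.range a)) :
    Function.Exact (jac φ a).vecMulLinear (gens φ) := by
  letI := φ.toRingHom.toAlgebra
  haveI : IsScalarTower k (MvPolynomial (Fin r) k) B := .of_algebraMap_eq fun x => (φ.commutes x).symm
  have hj : ∀ j, φ (a j) = 0 := fun j => RingHom.mem_ker.1 (hker ▸ Ideal.subset_span ⟨j, rfl⟩ :
      a j ∈ RingHom.ker φ.toRingHom)
  obtain ⟨-, hD⟩ := gens_surjective φ hφ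
  rw [LinearMap.exact_iff]
  refine le_antisymm (fun w hw => ?_) ?_
  · let e := Algebra.TensorProduct.basis B (KaehlerDifferential.mvPolynomialBasis k (Fin r))
    have hz : KaehlerDifferential.mapBaseChange k (MvPolynomial (Fin r) k) B
        (∑ j, w j • ((1 : B) ⊗ₜ[MvPolynomial (Fin r) k] KaehlerDifferential.D k _ (MvPolynomial.X j))) = 0 := by
      rw [LinearMap.mem_ker, gens, Fintype.linearCombination_apply] at hw
      rw [map_sum, ← hw]
      refine Finset.sum_congr rfl fun j _ => ?_
      rw [map_smul, KaehlerDifferential.mapBaseChange_tmul, one_smul, KaehlerDifferential.map_D]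
      rfl
    obtain ⟨y, hy⟩ := (KaehlerDifferential.exact_kerCotangentToTensor_mapBaseChange k
      (MvPolynomial (Fin r) k) B hφ _).1 hz
    obtain ⟨⟨y, hy0⟩, rfl⟩ := Ideal.toCotangent_surjective _ y
    rw [KaehlerDifferential.kerCotangentToTensor_toCotangent] at hy
    obtain ⟨b, hb⟩ := Ideal.mem_span_range_iff_exists_fun.1 (hker ▸ hy0 : y ∈ Ideal.span (Set.range a))
    refine ⟨fun i => φ (b i), funext fun n => ?_⟩
    have h1 := congrArg (fun z => e.repr z n) hy
    have hX : ∀ j, (1 : B) ⊗ₜ[MvPolynomial (Fin r) k] KaehlerDifferential.D k _ (MvPolynomial.X j) = e j := by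
      intro j
      rw [Algebra.TensorProduct.basis_apply]
      congr 1
      exact (KaehlerDifferential.mvPolynomialBasis k (Fin r)).repr.injective (by simp)
    simp only [hX] at h1
    rw [e.repr_sum_self, Algebra.TensorProduct.basis_repr_tmul] at h1
    simp only [one_smul, Finsupp.mapRange_apply, KaehlerDifferential.mvPolynomialBasis_repr_apply] at h1
    rw [← h1]
    show _ = φ (MvPolynomial.pderiv n y)
    simp only [← hb, map_sum, Derivation.leibniz, smul_eq_mul, map_add, map_mul, hj, zero_mul, add_zero]
    simp [Matrix.vecMul, dotProduct, jac]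
  · rintro _ ⟨v, rfl⟩
    rw [LinearMap.mem_ker, Matrix.vecMulLinear_apply, Matrix.vecMul_eq_sum, map_sum]
    refine Finset.sum_eq_zero fun i _ => ?_
    rw [map_smul]
    show v i • gens φ (fun j => φ (MvPolynomial.pderiv j (a i))) = 0
    rw [← hD, hj, map_zero, smul_zero]

end gens

/-- Fitting ideals of the cokernel of an injective matrix and of `Ext¹` of that cokernel agree. -/
theorem fitt_coker_eq [CommRing B] [Nontrivial B] {M : Type u} [AddCommGroup M] [Module B M]
    (J : Matrix (Fin c) (Fin r) B) (π : (Fin r → B) →ₗ[B] M) (hd : Function.Injective J.vecMulLinear)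
    (hs : Function.Surjective π) (hex : Function.Exact J.vecMulLinear π) :
    Fitt.ideal B M (r - c) =
      Fitt.ideal B (CategoryTheory.Abelian.Ext.{u} (ModuleCat.of B M) (ModuleCat.of B B) 1) 0 := by
  classical
  have hcr : c ≤ r := by simpa using card_le_of_injective B _ hd
  have hπ : Fintype.linearCombination B (fun j => π (Pi.single j 1)) = π := by
    ext j
    simp [Fintype.linearCombination_apply, Pi.single_apply]
  have hgen : Submodule.span B (Set.range fun j => π (Pi.single j 1)) = ⊤ := by
    rw [← Fintype.range_linearCombination, hπ, LinearMap.range_eq_top]; exact hs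
  obtain ⟨e⟩ := T1Base26.nonempty_ext_one_equiv (N := B) hd hs hex
  let ev : (Fin c → B) ≃ₗ[B] ((Fin c → B) →ₗ[B] B) := dotProductEquiv B (Fin c)
  let x : Fin c → ((Fin c → B) →ₗ[B] B) ⧸ LinearMap.range (LinearMap.lcomp B B J.vecMulLinear) :=
    fun i => Submodule.mkQ _ (ev (Pi.single i 1))
  have hlc : ∀ z : Fin c → B, Fintype.linearCombination B x z = Submodule.mkQ _ (ev z) := fun z => by
    rw [Fintype.linearCombination_apply]
    simp only [x, ← map_smul, ← map_sum]
    congr 2
    ext j
    simp [Pi.single_apply]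
  have hx : Submodule.span B (Set.range x) = ⊤ := by
    rw [← Fintype.range_linearCombination, LinearMap.range_eq_top]
    intro w
    obtain ⟨f, rfl⟩ := Submodule.mkQ_surjective _ w
    exact ⟨ev.symm f, by rw [hlc, ev.apply_symm_apply]⟩
  have hrel : GrothLib.Fitting.rel x = LinearMap.range J.mulVecLin := by
    ext z
    rw [GrothLib.Fitting.rel, LinearMap.mem_ker, hlc, Submodule.mkQ_apply, Submodule.Quotient.mk_eq_zero]
    have key : ∀ w : Fin r → B, LinearMap.lcomp B B J.vecMulLinear (dotProductEquiv B (Fin r) w) =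
        ev (J.mulVecLin w) := fun w => LinearMap.ext fun v => by
      show w ⬝ᵥ Matrix.vecMul v J = Matrix.mulVec J w ⬝ᵥ v
      rw [dotProduct_comm, ← Matrix.dotProduct_mulVec, dotProduct_comm]
    constructor
    · rintro ⟨g, hg⟩
      obtain ⟨w, rfl⟩ := (dotProductEquiv B (Fin r)).surjective g
      exact ⟨w, ev.injective ((key w).symm.trans hg)⟩
    · rintro ⟨w, rfl⟩
      exact ⟨_, key w⟩
  haveI : Module.Finite B (((Fin c → B) →ₗ[B] B) ⧸ LinearMap.range (LinearMap.lcomp B B J.vecMulLinear)) :=
    ⟨⟨Finset.univ.image x, by rw [Finset.coe_image, Finset.coe_univ, Set.image_univ]; exact hx⟩⟩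
  rw [← GrothLib.Fitting.ideal_congr e, GrothLib.Fitting.ideal_eq_minors x hx, hrel, Nat.sub_zero,
    ← minors_range_eq, GrothLib.Fitting.ideal_eq_minors (fun j => π (Pi.single j 1)) hgen,
    show r - (r - c) = c by omega]
  congr 1
  rw [GrothLib.Fitting.rel, hπ]
  exact LinearMap.exact_iff.1 hex

/-- Fitting ideals of the Jacobian cokernel and of the cokernel of its dual agree. -/
theorem fitt_eq [Field k] [CommRing B] [Algebra k B] [PerfectField k] [IsReduced B] [Nontrivial B]
    (φ : MvPolynomial (Fin r) k →ₐ[k] B) (a : Fin c → MvPolynomial (Fin r) k) (hφ : Function.Surjective φ)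
    (ha : IsWeaklyRegular (MvPolynomial (Fin r) k) (List.ofFn a))
    (hker : RingHom.ker φ.toRingHom = Ideal.span (Set.range a)) :
    Fitt.ideal B (KaehlerDifferential k B) (r - c) =
      Fitt.ideal B (CategoryTheory.Abelian.Ext.{u} (ModuleCat.of B (KaehlerDifferential k B)) (ModuleCat.of B B) 1) 0 :=
  fitt_coker_eq (jac φ a) (gens φ) (jac_injective φ a hφ ha hker) (gens_surjective φ hφ).1
    (jac_exact φ a hφ hker)

end GrothLib.JacExt1
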