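import Groth.Agent.Lib.JacExt1.Basic
import Groth.Agent.Lib.T1Base26.Cot
import Mathlib

/-!
# Jacobian presentation of completed differentials of a formal complete intersection

Abstract data: `φ : R[X₁..X_r] →ₐ B` dense for the `T`-adic topology (`T` the image of `t`), polynomials
`p m i` which generate the kernel of `R[X] → B/T^m` together with `t^m`.
-/

universe u

open TensorProduct

namespace GrothLib.JacExt1

variable {R : Type u} [CommRing R] {t : R} {r c : ℕ} {B : Type u} [CommRing B] [Algebra R B]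
  {φ : MvPolynomial (Fin r) R →ₐ[R] B} {T : B} {p : ℕ → Fin c → MvPolynomial (Fin r) R}

/-- Hypotheses on the data. -/
structure IsFormalPres (t : R) (φ : MvPolynomial (Fin r) R →ₐ[R] B) (T : B)
    (p : ℕ → Fin c → MvPolynomial (Fin r) R) : Prop where
  hT : algebraMap R B t = T
  dense : ∀ (m : ℕ) (b : B), ∃ q, T ^ m ∣ b - φ q
  zero : ∀ m i, T ^ m ∣ φ (p m i)
  coh : ∀ m i, MvPolynomial.C (t ^ m) ∣ p (m + 1) i - p m i
  ker : ∀ m q, T ^ m ∣ φ q → ∃ (e : Fin c → MvPolynomial (Fin r) R) (d : MvPolynomial (Fin r) R),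
    q = ∑ i, e i * p m i + MvPolynomial.C (t ^ m) * d

theorem mem_pow_smul_iff {M : Type u} [AddCommGroup M] [Module B M] (T : B) (m : ℕ) (x : M) :
    x ∈ (Ideal.span {T} ^ m • ⊤ : Submodule B M) ↔ ∃ y, x = T ^ m • y := by
  rw [Ideal.span_singleton_pow, Submodule.ideal_span_singleton_smul, Submodule.mem_smul_pointwise_iff_exists]
  simp [eq_comm]

theorem dvd_iff_mem_pow_smul (T : B) (m : ℕ) (x : B) :
    x ∈ (Ideal.span {T} ^ m • ⊤ : Submodule B B) ↔ T ^ m ∣ x := by
  rw [mem_pow_smul_iff]; rfl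

theorem exists_limit [IsPrecomplete (Ideal.span {T}) B] (f : ℕ → B) (hf : ∀ m, T ^ m ∣ f (m + 1) - f m) :
    ∃ L, ∀ m, T ^ m ∣ L - f m := by
  obtain ⟨L, hL⟩ := IsPrecomplete.prec (I := Ideal.span {T}) (M := B) inferInstance (f := f) (fun {m n} hmn => by
    rw [SModEq.sub_mem, dvd_iff_mem_pow_smul]
    induction n, hmn using Nat.le_induction with
    | base => simp
    | succ n hmn ih =>
      have h := dvd_sub ih ((pow_dvd_pow T hmn).trans (hf n))
      convert h using 1
      ring)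
  refine ⟨L, fun m => ?_⟩
  have h := hL m
  rw [SModEq.sub_mem, dvd_iff_mem_pow_smul] at h
  rwa [dvd_sub_comm]

theorem eq_zero_of_dvd [IsHausdorff (Ideal.span {T}) B] (x : B) (h : ∀ m, T ^ m ∣ x) : x = 0 :=
  IsHausdorff.haus (I := Ideal.span {T}) (M := B) inferInstance x fun m => by rw [SModEq.zero, dvd_iff_mem_pow_smul]; exact h m

variable (hP : IsFormalPres t φ T p)

include hP

theorem dvd_pderiv {m : ℕ} {q : MvPolynomial (Fin r) R} (h : T ^ m ∣ φ q) :
    ∃ w : Fin c → B, ∀ j, T ^ m ∣ φ (MvPolynomial.pderiv j q) - ∑ i, w i * φ (MvPolynomial.pderiv j (p m i)) := by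
  obtain ⟨e, d, rfl⟩ := hP.ker m q h
  refine ⟨fun i => φ (e i), fun j => ?_⟩
  simp only [map_add, map_sum, Derivation.leibniz, smul_eq_mul, map_mul, MvPolynomial.pderiv_C,
    MvPolynomial.algHom_C, map_zero, mul_zero, add_zero, hP.hT, map_pow, Finset.sum_add_distrib,
    Derivation.map_algebraMap, Derivation.leibniz_pow, smul_zero, zero_add]
  rw [add_assoc, add_sub_cancel_left]
  exact dvd_add (Finset.dvd_sum fun i _ => (hP.zero m i).mul_right _) (dvd_mul_right _ _)

theorem exists_jac [IsPrecomplete (Ideal.span {T}) B] :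
    ∃ J : Matrix (Fin c) (Fin r) B, ∀ m i j, T ^ m ∣ J i j - φ (MvPolynomial.pderiv j (p m i)) := by
  choose J hJ using fun i j => exists_limit (T := T) (fun m => φ (MvPolynomial.pderiv j (p m i))) fun m => by
    obtain ⟨d, hd⟩ := hP.coh m i
    rw [← map_sub, ← map_sub, hd, MvPolynomial.pderiv_C_mul, map_mul, MvPolynomial.algHom_C, map_pow, hP.hT]
    exact dvd_mul_right _ _
  exact ⟨J, fun m i j => hJ i j m⟩

variable {J : Matrix (Fin c) (Fin r) B} (hJ : ∀ m i j, T ^ m ∣ J i j - φ (MvPolynomial.pderiv j (p m i)))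

include hJ

theorem dvd_sub_vecMul {m : ℕ} {q : MvPolynomial (Fin r) R} (h : T ^ m ∣ φ q) :
    ∃ w : Fin c → B, ∀ j, T ^ m ∣ φ (MvPolynomial.pderiv j q) - Matrix.vecMul w J j := by
  obtain ⟨w, hw⟩ := dvd_pderiv hP h
  refine ⟨w, fun j => ?_⟩
  have h2 : T ^ m ∣ ∑ i, w i * (J i j - φ (MvPolynomial.pderiv j (p m i))) :=
    Finset.dvd_sum fun i _ => (hJ m i j).mul_left _
  have h3 := dvd_sub (hw j) h2
  convert h3 using 1
  simp only [Matrix.vecMul, dotProduct, mul_sub, Finset.sum_sub_distrib]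
  ring

theorem gens_jac (m : ℕ) (v : Fin c → B) :
    ∃ ω, gens φ (Matrix.vecMul v J) = T ^ m • ω := by
  have : ∀ i, ∃ ω, gens φ (J i) = T ^ m • ω := fun i => by
    choose u hu using hJ m i
    obtain ⟨b, hb⟩ := hP.zero m i
    refine ⟨KaehlerDifferential.D R B b + gens φ u, ?_⟩
    have hJi : J i = (fun j => φ (MvPolynomial.pderiv j (p m i))) + T ^ m • u := funext fun j => by
      rw [Pi.add_apply, Pi.smul_apply, smul_eq_mul, ← hu j, add_sub_cancel]
    rw [hJi, map_add, map_smul, ← D_eq_gens, hb, Derivation.leibniz, ← hP.hT, ← map_pow,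
      Derivation.map_algebraMap, smul_zero, add_zero, smul_add]
  choose ω hω using this
  refine ⟨∑ i, v i • ω i, ?_⟩
  rw [Matrix.vecMul_eq_sum, map_sum, Finset.smul_sum]
  refine Finset.sum_congr rfl fun i _ => ?_
  rw [map_smul, hω, smul_comm]

omit hJ in
theorem gens_add (ω : KaehlerDifferential R B) : ∃ v ω', ω = gens φ v + T • ω' := by
  have hω : ω ∈ Submodule.span B (Set.range (KaehlerDifferential.D R B)) := by
    rw [KaehlerDifferential.span_range_derivation]; trivial
  induction hω using Submodule.span_induction with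
  | mem x hx =>
    obtain ⟨b, rfl⟩ := hx
    obtain ⟨q, d, hd⟩ := hP.dense 1 b
    refine ⟨_, KaehlerDifferential.D R B d, (?_ : _ = gens φ (fun j => φ (MvPolynomial.pderiv j q)) + _)⟩
    rw [← D_eq_gens, eq_add_of_sub_eq' hd, map_add, pow_one, Derivation.leibniz, ← hP.hT,
      Derivation.map_algebraMap, smul_zero, add_zero]
  | zero => exact ⟨0, 0, by simp⟩
  | add x y _ _ hx hy =>
    obtain ⟨v, a, rfl⟩ := hx
    obtain ⟨w, b, rfl⟩ := hy
    exact ⟨v + w, a + b, by rw [map_add, smul_add]; abel⟩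
  | smul s x _ hx =>
    obtain ⟨v, a, rfl⟩ := hx
    exact ⟨s • v, s • a, by rw [map_smul, smul_add, smul_comm T]⟩

theorem of_gens_eq_smul {m : ℕ} {v : Fin r → B} {ω : KaehlerDifferential R B} (h : gens φ v = T ^ m • ω) :
    ∃ w : Fin c → B, ∀ j, T ^ m ∣ v j - Matrix.vecMul w J j := by
  classical
  let N : Submodule B (Fin r → B) :=
    LinearMap.range J.vecMulLinear ⊔ LinearMap.range ((T ^ m) • (LinearMap.id : (Fin r → B) →ₗ[B] (Fin r → B)))
  have hN : ∀ v, v ∈ N ↔ ∃ w : Fin c → B, ∀ j, T ^ m ∣ v j - Matrix.vecMul w J j := fun v => by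
    rw [Submodule.mem_sup]
    constructor
    · rintro ⟨_, ⟨w, rfl⟩, _, ⟨u, rfl⟩, rfl⟩
      exact ⟨w, fun j => ⟨u j, by simp⟩⟩
    · rintro ⟨w, hw⟩
      choose u hu using hw
      exact ⟨_, ⟨w, rfl⟩, _, ⟨u, rfl⟩, funext fun j => by simp [← hu j]⟩
  choose q hq using hP.dense m
  let mkN : MvPolynomial (Fin r) R → (Fin r → B) ⧸ N := fun q => N.mkQ fun j => φ (MvPolynomial.pderiv j q)
  have key : ∀ q q', T ^ m ∣ φ q - φ q' → mkN q = mkN q' := fun q q' h => by
    obtain ⟨w, hw⟩ := dvd_sub_vecMul hP hJ (q := q - q') (by rwa [map_sub])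
    exact (Submodule.Quotient.eq N).2 ((hN _).2 ⟨w, fun j => by simpa [map_sub] using hw j⟩)
  have hkill : ∀ x : (Fin r → B) ⧸ N, T ^ m • x = 0 := fun x => by
    obtain ⟨x, rfl⟩ := N.mkQ_surjective x
    rw [← map_smul, Submodule.mkQ_apply, Submodule.Quotient.mk_eq_zero, hN]
    exact ⟨0, fun j => ⟨x j, by simp⟩⟩
  have hsmul : ∀ b b' (x : (Fin r → B) ⧸ N), T ^ m ∣ b - b' → b • x = b' • x := fun b b' x ⟨d, hd⟩ => by
    rw [← sub_eq_zero, ← sub_smul, hd, mul_comm, mul_smul, hkill, smul_zero]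
  let δ : Derivation R B ((Fin r → B) ⧸ N) := Derivation.mk'
    { toFun := fun b => mkN (q b)
      map_add' := fun a b => by
        rw [key _ (q a + q b) (by
          have h := dvd_sub (dvd_add (hq a) (hq b)) (hq (a + b))
          rw [map_add]; convert h using 1; ring)]
        simp only [mkN, ← map_add]
        congr 1
        funext j
        simp
      map_smul' := fun s a => by
        rw [key _ (s • q a) (by
          have h := dvd_sub ((hq a).mul_left (algebraMap R B s)) (hq (s • a))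
          rw [map_smul, Algebra.smul_def]; rw [Algebra.smul_def] at h ⊢; convert h using 1; ring)]
        simp only [mkN, RingHom.id_apply, map_smul]
        rw [← algebraMap_smul B s (N.mkQ _), ← map_smul]
        congr 1
        ext j
        simp [Algebra.smul_def] }
    fun a b => by
      show mkN (q (a * b)) = a • mkN (q b) + b • mkN (q a)
      rw [key _ (q a * q b) (by
          have h := dvd_sub (dvd_add ((hq a).mul_right b) ((hq b).mul_left (φ (q a)))) (hq (a * b))
          rw [map_mul]; convert h using 1; ring),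
        hsmul a (φ (q a)) _ (hq a), hsmul b (φ (q b)) _ (hq b)]
      simp only [mkN, ← map_smul, ← map_add]
      congr 1
      funext j
      simp [Derivation.leibniz]
  have hδ : ∀ j, δ (φ (MvPolynomial.X j)) = N.mkQ (Pi.single j 1) := fun j => by
    show mkN (q _) = _
    rw [key _ (MvPolynomial.X j) (by rw [dvd_sub_comm]; exact hq _)]
    simp only [mkN]
    congr 1
    funext i
    simp [MvPolynomial.pderiv_X, Pi.single_apply, eq_comm, apply_ite φ]
  have h2 := congrArg δ.liftKaehlerDifferential h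
  rw [map_smul, hkill, gens, Fintype.linearCombination_apply, map_sum] at h2
  rw [← hN, ← Submodule.Quotient.mk_eq_zero N, ← Submodule.mkQ_apply, ← h2]
  conv_lhs => rw [pi_eq_sum_univ' v, map_sum]
  refine Finset.sum_congr rfl fun j _ => ?_
  rw [map_smul, map_smul, Derivation.liftKaehlerDifferential_comp_D, hδ]

omit hP hJ in
theorem dvd_of_vecMul (hT0 : T ∈ nonZeroDivisors B)
    (hinj : ∀ v : Fin c → B, (∀ j, T ∣ Matrix.vecMul v J j) → ∀ i, T ∣ v i) :
    ∀ (m : ℕ) (v : Fin c → B), (∀ j, T ^ m ∣ Matrix.vecMul v J j) → ∀ i, T ^ m ∣ v i := by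
  intro m
  induction m with
  | zero => intro v _ i; simp
  | succ m ih =>
    intro v hv i
    choose u hu using hinj v fun j => (dvd_pow_self T m.succ_ne_zero).trans (hv j)
    have hvu : v = T • u := funext fun i => hu i
    rw [hu i, pow_succ']
    refine mul_dvd_mul_left T (ih u (fun j => ?_) i)
    obtain ⟨d, hd⟩ := hv j
    refine ⟨d, (mul_cancel_left_mem_nonZeroDivisors hT0).1 ?_⟩
    rw [← mul_assoc, ← pow_succ', ← hd, hvu, Matrix.smul_vecMul, Pi.smul_apply, smul_eq_mul]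

omit hP hJ in
theorem vecMul_injective [IsHausdorff (Ideal.span {T}) B] (hT0 : T ∈ nonZeroDivisors B)
    (hinj : ∀ v : Fin c → B, (∀ j, T ∣ Matrix.vecMul v J j) → ∀ i, T ∣ v i) :
    Function.Injective J.vecMulLinear := by
  rw [injective_iff_map_eq_zero]
  intro v hv
  funext i
  exact eq_zero_of_dvd (T := T) _ fun m => dvd_of_vecMul hT0 hinj m v (fun j => by
    rw [show Matrix.vecMul v J j = 0 from congrFun hv j]; exact dvd_zero _) i

/-- `B^r → Ω̂`. -/
noncomputable def completedGens (φ : MvPolynomial (Fin r) R →ₐ[R] B) (T : B) :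
    (Fin r → B) →ₗ[B] AdicCompletion (Ideal.span {T}) (KaehlerDifferential R B) :=
  (AdicCompletion.of _ _).comp (gens φ)

omit hP hJ in
theorem completedGens_eq_zero_iff (v : Fin r → B) :
    completedGens φ T v = 0 ↔ ∀ m : ℕ, ∃ ω, gens φ v = T ^ m • ω := by
  simp only [completedGens, LinearMap.comp_apply, AdicCompletion.ext_iff, AdicCompletion.of_apply]
  refine forall_congr' fun m => ?_
  rw [AdicCompletion.val_zero_apply, Submodule.mkQ_apply, Submodule.Quotient.mk_eq_zero, mem_pow_smul_iff]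

omit hJ in
theorem completedGens_surjective [IsPrecomplete (Ideal.span {T}) B] :
    Function.Surjective (completedGens φ T) := by
  intro y
  obtain ⟨f, rfl⟩ := AdicCompletion.mk_surjective _ _ y
  have hf : ∀ m, ∃ ω, f.1 (m + 1) - f.1 m = T ^ m • ω := fun m => by
    rw [← mem_pow_smul_iff, ← SModEq.sub_mem]
    exact (f.2 (Nat.le_succ m)).symm
  have step : ∀ (m : ℕ) (v : Fin r → B), (∃ ω, f.1 m - gens φ v = T ^ m • ω) →
      ∃ v', (∀ j, T ^ m ∣ v' j - v j) ∧ ∃ ω, f.1 (m + 1) - gens φ v' = T ^ (m + 1) • ω := by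
    rintro m v ⟨ω, hω⟩
    obtain ⟨ω₁, hω₁⟩ := hf m
    obtain ⟨u, ω', hu⟩ := gens_add hP (ω₁ + ω)
    refine ⟨v + T ^ m • u, fun j => ⟨u j, by simp⟩, ω', ?_⟩
    rw [map_add, map_smul, pow_succ, mul_smul, ← sub_sub,
      show f.1 (m + 1) - gens φ v = T ^ m • (ω₁ + ω) by rw [smul_add, ← hω₁, ← hω]; abel, hu, smul_add]
    abel
  choose next hnext using step
  let s : ∀ m, {v : Fin r → B // ∃ ω, f.1 m - gens φ v = T ^ m • ω} :=
    fun m => Nat.rec ⟨0, f.1 0, by simp⟩ (fun n x => ⟨next n x.1 x.2, (hnext n x.1 x.2).2⟩) m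
  choose V hV using fun j => exists_limit (T := T) (fun m => (s m).1 j) fun m => (hnext m (s m).1 (s m).2).1 j
  refine ⟨V, AdicCompletion.ext fun m => ?_⟩
  show Submodule.mkQ _ (gens φ V) = Submodule.mkQ _ (f.1 m)
  rw [Submodule.mkQ_apply, Submodule.mkQ_apply, Submodule.Quotient.eq, mem_pow_smul_iff]
  obtain ⟨ω, hω⟩ := (s m).2
  choose u hu using fun j => hV j m
  refine ⟨gens φ u - ω, ?_⟩
  rw [smul_sub, ← map_smul, ← hω, show T ^ m • u = V - (s m).1 from funext fun j => (hu j).symm, map_sub]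
  abel

theorem completedGens_exact [IsAdicComplete (Ideal.span {T}) B] (hT0 : T ∈ nonZeroDivisors B)
    (hinj : ∀ v : Fin c → B, (∀ j, T ∣ Matrix.vecMul v J j) → ∀ i, T ∣ v i) :
    Function.Exact J.vecMulLinear (completedGens φ T) := by
  intro v
  rw [completedGens_eq_zero_iff]
  constructor
  · intro h
    choose w hw using fun m => of_gens_eq_smul hP hJ (h m).choose_spec
    choose W hW using fun i => exists_limit (T := T) (fun m => w m i) fun m =>
      dvd_of_vecMul hT0 hinj m (w (m + 1) - w m) (fun j => by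
        have h1 := dvd_sub (hw m j) ((pow_dvd_pow T m.le_succ).trans (hw (m + 1) j))
        rw [Matrix.sub_vecMul, Pi.sub_apply]
        convert h1 using 1
        ring) i
    refine ⟨W, funext fun j => (sub_eq_zero.1 (eq_zero_of_dvd (T := T) _ fun m => ?_)).symm⟩
    have h2 : T ^ m ∣ ∑ i, (W i - w m i) * J i j := Finset.dvd_sum fun i _ => (hW i m).mul_right _
    have h3 := dvd_sub (hw m j) h2
    convert h3 using 1
    simp only [Matrix.vecMulLinear_apply, Matrix.vecMul, dotProduct, sub_mul, Finset.sum_sub_distrib]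
    ring
  · rintro ⟨w, rfl⟩ m
    exact gens_jac hP hJ m w

/-- `Ext¹` of the completed differentials commutes with restriction to a level. -/
theorem nonempty_ext_level [IsNoetherianRing R] [IsAdicComplete (Ideal.span {T}) B] (hT0 : T ∈ nonZeroDivisors B)
    (hinj : ∀ v : Fin c → B, (∀ j, T ∣ Matrix.vecMul v J j) → ∀ i, T ∣ v i) (m : ℕ) (𝔞 : Ideal B)
    (h𝔞 : 𝔞 = Ideal.span {T ^ m}) :
    Nonempty (TensorProduct B (B ⧸ 𝔞) (CategoryTheory.Abelian.Ext.{u}
        (ModuleCat.of B (AdicCompletion (Ideal.span {T}) (KaehlerDifferential R B))) (ModuleCat.of B B) 1) ≃ₗ[B ⧸ 𝔞]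
      CategoryTheory.Abelian.Ext.{u} (ModuleCat.of (B ⧸ 𝔞) (KaehlerDifferential R (B ⧸ 𝔞)))
        (ModuleCat.of (B ⧸ 𝔞) (B ⧸ 𝔞)) 1) := by
  classical
  have hbij : Function.Bijective (KaehlerDifferential.mapBaseChange R B (B ⧸ 𝔞)) := by
    obtain rfl : 𝔞 = (Ideal.span {t ^ m}).map (algebraMap R B) := by
      rw [h𝔞, Ideal.map_span, Set.image_singleton, map_pow, hP.hT]
    exact T1Base26.bijective_mapBaseChange_quotient _
  let e := LinearEquiv.ofBijective _ hbij
  let π' := e.toLinearMap ∘ₗ (gens φ).baseChange (B ⧸ 𝔞)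
  have h1 : ∀ {M : Type u} [AddCommGroup M] [Module B M] (x : (B ⧸ 𝔞) ⊗[B] M), ∃ y, x = 1 ⊗ₜ y := by
    intro M _ _ x
    obtain ⟨y, rfl⟩ := TensorProduct.mk_surjective B M (B ⧸ 𝔞) Ideal.Quotient.mk_surjective x
    exact ⟨y, rfl⟩
  have h0 : ∀ {M : Type u} [AddCommGroup M] [Module B M] (y : M),
      (1 : B ⧸ 𝔞) ⊗ₜ[B] y = 0 ↔ ∃ z, y = T ^ m • z := by
    intro M _ _ y
    rw [← (TensorProduct.quotTensorEquivQuotSMul M 𝔞).map_eq_zero_iff, ← map_one (Ideal.Quotient.mk 𝔞),
      TensorProduct.quotTensorEquivQuotSMul_mk_tmul, one_smul, Submodule.Quotient.mk_eq_zero, h𝔞,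
      ← Ideal.span_singleton_pow, mem_pow_smul_iff]
  refine T1Base26.nonempty_ext_baseChange (B ⧸ 𝔞) J.vecMulLinear (completedGens φ T)
    (vecMul_injective hT0 hinj) (completedGens_surjective hP) (completedGens_exact hP hJ hT0 hinj) π' ?_ ?_ ?_
  · rw [injective_iff_map_eq_zero]
    intro x hx
    obtain ⟨v, rfl⟩ := h1 x
    rw [LinearMap.baseChange_tmul, h0] at hx
    obtain ⟨z, hz⟩ := hx
    choose u hu using dvd_of_vecMul hT0 hinj m v fun j => ⟨z j, congrFun hz j⟩
    exact (h0 v).2 ⟨u, funext hu⟩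
  · refine e.surjective.comp fun x => ?_
    obtain ⟨y, rfl⟩ := h1 x
    have h : ∀ (n : ℕ) (ω : KaehlerDifferential R B), ∃ v ω', ω = gens φ v + T ^ n • ω' := by
      intro n
      induction n with
      | zero => exact fun ω => ⟨0, ω, by simp⟩
      | succ n ih =>
        intro ω
        obtain ⟨v, ω', rfl⟩ := ih ω
        obtain ⟨u, ω'', rfl⟩ := gens_add hP ω'
        exact ⟨v + T ^ n • u, ω'', by rw [map_add, map_smul, smul_add, pow_succ, mul_smul]; abel⟩
    obtain ⟨v, ω', rfl⟩ := h m y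
    exact ⟨1 ⊗ₜ v, by rw [LinearMap.baseChange_tmul, tmul_add, (h0 (T ^ m • ω')).2 ⟨ω', rfl⟩, add_zero]⟩
  · intro x
    rw [LinearMap.comp_apply, LinearEquiv.coe_coe, e.map_eq_zero_iff]
    constructor
    · intro hx
      obtain ⟨v, rfl⟩ := h1 x
      rw [LinearMap.baseChange_tmul, h0] at hx
      obtain ⟨ω, hω⟩ := hx
      obtain ⟨w, hw⟩ := of_gens_eq_smul hP hJ hω
      choose u hu using hw
      refine ⟨1 ⊗ₜ w, ?_⟩
      rw [LinearMap.baseChange_tmul, ← sub_eq_zero, ← tmul_sub, h0]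
      exact ⟨-u, funext fun j => by simp [← hu j]⟩
    · rintro ⟨y, rfl⟩
      obtain ⟨w, rfl⟩ := h1 y
      rw [LinearMap.baseChange_tmul, LinearMap.baseChange_tmul, h0]
      exact gens_jac hP hJ m w

end GrothLib.JacExt1
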