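import Groth.Agent.Lib.JacExt1.Formal
import Mathlib

/-!
# Formal complete intersections over `k[[t]]` with reduced closed fibre give formal Jacobian presentations
-/

universe u

open RingTheory.Sequence

namespace GrothLib.JacExt1

section completion

variable {P : Type u} [CommRing P] (s : P)

theorem dvd_iff_eval_eq_zero (m : ℕ) (x : AdicCompletion (Ideal.span {s}) P) :
    algebraMap P (AdicCompletion (Ideal.span {s}) P) s ^ m ∣ x ↔
      AdicCompletion.eval (Ideal.span {s}) P m x = 0 := by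
  rw [← LinearMap.mem_ker, ← AdicCompletion.pow_smul_top_eq_ker_eval (Submodule.fg_span_singleton s), mem_pow_smul_iff]
  simp only [Dvd.dvd, Algebra.smul_def, map_pow]

theorem exists_approx (m : ℕ) (x : AdicCompletion (Ideal.span {s}) P) :
    ∃ q : P, algebraMap P (AdicCompletion (Ideal.span {s}) P) s ^ m ∣ x - algebraMap P _ q := by
  obtain ⟨q, hq⟩ := Submodule.mkQ_surjective _ (x.val m)
  refine ⟨q, (dvd_iff_eval_eq_zero s m _).2 ?_⟩
  rw [map_sub, sub_eq_zero]
  exact hq.symm

theorem dvd_of_dvd_algebraMap {m : ℕ} {q : P}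
    (h : algebraMap P (AdicCompletion (Ideal.span {s}) P) s ^ m ∣ algebraMap P _ q) : s ^ m ∣ q := by
  rw [dvd_iff_eval_eq_zero] at h
  exact (dvd_iff_mem_pow_smul s m q).1 ((Submodule.Quotient.mk_eq_zero _).1 h)

end completion

open MvPolynomial in
set_option maxHeartbeats 2000000 in
theorem exists_formalPres' (k : Type u) [Field k] [PerfectField k] (r c : ℕ)
    (s : MvPolynomial (Fin r) (PowerSeries k)) (hs : s = MvPolynomial.C PowerSeries.X)
    (a : Fin c → AdicCompletion (Ideal.span {s}) (MvPolynomial (Fin r) (PowerSeries k)))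
    (B : Type u) [CommRing B] [Algebra (PowerSeries k) B]
    [IsAdicComplete (Ideal.span {algebraMap (PowerSeries k) B PowerSeries.X}) B]
    [Module.Flat (PowerSeries k) B]
    (ψ : AdicCompletion (Ideal.span {s}) (MvPolynomial (Fin r) (PowerSeries k)) →ₐ[PowerSeries k] B)
    (hψ : Function.Surjective ψ) (hker : RingHom.ker ψ.toRingHom = Ideal.span (Set.range a))
    (hreg : IsWeaklyRegular
      (AdicCompletion (Ideal.span {s}) (MvPolynomial (Fin r) (PowerSeries k)) ⧸
        Ideal.span {algebraMap (PowerSeries k) (AdicCompletion (Ideal.span {s}) (MvPolynomial (Fin r) (PowerSeries k))) PowerSeries.X ^ (0 + 1)})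
      ((List.ofFn a).map (Ideal.Quotient.mk (Ideal.span {algebraMap (PowerSeries k)
        (AdicCompletion (Ideal.span {s}) (MvPolynomial (Fin r) (PowerSeries k))) PowerSeries.X ^ (0 + 1)}))))
    [IsReduced (B ⧸ Ideal.span {algebraMap (PowerSeries k) B PowerSeries.X})] :
    ∃ (φ : MvPolynomial (Fin r) (PowerSeries k) →ₐ[PowerSeries k] B)
      (p : ℕ → Fin c → MvPolynomial (Fin r) (PowerSeries k)) (J : Matrix (Fin c) (Fin r) B),
      IsFormalPres PowerSeries.X φ (algebraMap (PowerSeries k) B PowerSeries.X) p ∧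
      (∀ m i j, algebraMap (PowerSeries k) B PowerSeries.X ^ m ∣ J i j - φ (pderiv j (p m i))) ∧
      algebraMap (PowerSeries k) B PowerSeries.X ∈ nonZeroDivisors B ∧
      (∀ v : Fin c → B, (∀ j, algebraMap (PowerSeries k) B PowerSeries.X ∣ Matrix.vecMul v J j) →
        ∀ i, algebraMap (PowerSeries k) B PowerSeries.X ∣ v i) := by
  classical
  set T := algebraMap (PowerSeries k) B PowerSeries.X with hTdef
  let A := AdicCompletion (Ideal.span {s}) (MvPolynomial (Fin r) (PowerSeries k))
  let φ : MvPolynomial (Fin r) (PowerSeries k) →ₐ[PowerSeries k] B :=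
    ψ.comp ((Algebra.ofId (MvPolynomial (Fin r) (PowerSeries k)) A).restrictScalars (PowerSeries k))
  have hφ : ∀ q, φ q = ψ (algebraMap _ A q) := fun _ => rfl
  have hτ : algebraMap (PowerSeries k) A PowerSeries.X = algebraMap _ A s := by
    rw [IsScalarTower.algebraMap_apply (PowerSeries k) (MvPolynomial (Fin r) (PowerSeries k)) A]
    exact congrArg _ hs.symm
  have hψs : ψ (algebraMap _ A s) = T := by rw [← hτ]; exact ψ.commutes _
  have ha : ∀ i, ψ (a i) = 0 := fun i => RingHom.mem_ker.1 (hker.symm ▸ Ideal.subset_span ⟨i, rfl⟩ :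
    a i ∈ RingHom.ker ψ.toRingHom)
  choose p hp using fun m i => exists_approx s m (a i)
  have hP : IsFormalPres PowerSeries.X φ T p := by
    refine ⟨rfl, fun m b => ?_, fun m i => ?_, fun m i => ?_, fun m q hq => ?_⟩
    · obtain ⟨x, rfl⟩ := hψ b
      obtain ⟨q, hq⟩ := exists_approx s m x
      refine ⟨q, ?_⟩
      have h := map_dvd ψ hq
      rwa [map_pow, hψs, map_sub, ← hφ] at h
    · have h := map_dvd ψ (hp m i)
      rwa [map_pow, hψs, map_sub, ← hφ, ha, zero_sub, dvd_neg] at h
    · rw [map_pow, ← hs]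
      refine dvd_of_dvd_algebraMap s ?_
      have h := dvd_sub (hp m i) ((pow_dvd_pow _ m.le_succ).trans (hp (m + 1) i))
      rwa [sub_sub_sub_cancel_left, ← map_sub] at h
    · obtain ⟨b, hb⟩ := hq
      obtain ⟨y, rfl⟩ := hψ b
      have h1 : algebraMap _ A q - algebraMap _ A s ^ m * y ∈ RingHom.ker ψ.toRingHom := by
        rw [RingHom.mem_ker]
        show ψ _ = 0
        rw [map_sub, map_mul, map_pow, hψs, ← hφ, hb, sub_self]
      rw [hker, Ideal.mem_span_range_iff_exists_fun] at h1
      obtain ⟨e, he⟩ := h1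
      choose e' he' using fun i => exists_approx s m (e i)
      have h2 : s ^ m ∣ q - ∑ i, e' i * p m i := by
        refine dvd_of_dvd_algebraMap s ?_
        have h3 : algebraMap _ A s ^ m ∣ ∑ i, (e i * a i - algebraMap _ A (e' i) * algebraMap _ A (p m i)) := by
          refine Finset.dvd_sum fun i _ => ?_
          rw [show e i * a i - algebraMap _ A (e' i) * algebraMap _ A (p m i) =
            (e i - algebraMap _ A (e' i)) * a i + algebraMap _ A (e' i) * (a i - algebraMap _ A (p m i)) by ring]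
          exact dvd_add ((he' i).mul_right _) ((hp m i).mul_left _)
        rw [map_sub, map_sum]
        simp only [map_mul]
        rw [Finset.sum_sub_distrib, he] at h3
        have h4 := dvd_add h3 (dvd_mul_right (algebraMap _ A s ^ m) y)
        convert h4 using 1
        ring
      obtain ⟨d, hd⟩ := h2
      exact ⟨e', d, by rw [map_pow, ← hs, ← hd, add_sub_cancel]⟩
  obtain ⟨J, hJ⟩ := exists_jac hP
  refine ⟨φ, p, J, hP, hJ, ?_, fun v hv i => ?_⟩
  · have h : IsSMulRegular B (PowerSeries.X : PowerSeries k) :=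
      Module.Flat.isSMulRegular_of_nonZeroDivisors (R := PowerSeries k) (M := B) (mem_nonZeroDivisors_of_ne_zero PowerSeries.X_ne_zero)
    refine mem_nonZeroDivisors_iff_right.2 fun b hb => h (by simpa [Algebra.smul_def, mul_comm] using hb)
  set B₁ := B ⧸ Ideal.span {T}
  set mk : B →+* B₁ := Ideal.Quotient.mk (Ideal.span {T}) with hmk
  letI : Algebra k B₁ := ((mk.comp (algebraMap (PowerSeries k) B)).comp PowerSeries.C).toAlgebra
  let φ₁ : MvPolynomial (Fin r) k →ₐ[k] B₁ := MvPolynomial.aeval fun j => mk (φ (X j))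
  let σ : MvPolynomial (Fin r) k →+* MvPolynomial (Fin r) (PowerSeries k) := MvPolynomial.map PowerSeries.C
  let cc : MvPolynomial (Fin r) (PowerSeries k) →+* MvPolynomial (Fin r) k :=
    MvPolynomial.map PowerSeries.constantCoeff
  have hσ : ∀ q, φ₁ q = mk (φ (σ q)) := fun q => by
    induction q using MvPolynomial.induction_on with
    | C x =>
      rw [algHom_C, show σ (C x) = C (PowerSeries.C x) from map_C _ _, algHom_C]
      rfl
    | add p q hp hq => simp only [map_add, hp, hq]
    | mul_X p n hp => simp only [map_mul, hp, show σ (X n) = X n from map_X _ _, show φ₁ (X n) = mk (φ (X n)) from aeval_X _ n]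
  have hccσ : ∀ q, cc (σ q) = q := fun q => by
    show MvPolynomial.map _ (MvPolynomial.map _ q) = q
    rw [MvPolynomial.map_map, show PowerSeries.constantCoeff.comp PowerSeries.C = RingHom.id k from
      RingHom.ext PowerSeries.constantCoeff_C, MvPolynomial.map_id]
  have hcc : ∀ q, s ∣ q - σ (cc q) := fun q => by
    rw [hs, C_dvd_iff_dvd_coeff]
    intro d
    rw [coeff_sub, coeff_map, coeff_map, PowerSeries.X_dvd_iff, map_sub, PowerSeries.constantCoeff_C, sub_self]
  have hφcc : ∀ q, φ₁ (cc q) = mk (φ q) := fun q => by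
    rw [hσ, eq_comm, hmk, Ideal.Quotient.mk_eq_mk_iff_sub_mem, Ideal.mem_span_singleton, ← map_sub]
    have h := map_dvd φ (hcc q)
    rwa [hs, algHom_C] at h
  have hmk0 : ∀ b, mk b = 0 ↔ T ∣ b := fun b => by
    rw [hmk, Ideal.Quotient.eq_zero_iff_mem, Ideal.mem_span_singleton]
  have hsurj : Function.Surjective φ₁ := fun x => by
    obtain ⟨b, rfl⟩ := Ideal.Quotient.mk_surjective x
    obtain ⟨q, hq⟩ := hP.dense 1 b
    refine ⟨cc q, ?_⟩
    rw [hφcc, eq_comm, Ideal.Quotient.mk_eq_mk_iff_sub_mem, Ideal.mem_span_singleton]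
    simpa using hq
  have hker₁ : RingHom.ker φ₁.toRingHom = Ideal.span (Set.range fun i => cc (p 1 i)) := by
    refine le_antisymm (fun q hq => ?_) (Ideal.span_le.2 ?_)
    · have h : T ^ 1 ∣ φ (σ q) := by rw [pow_one, ← hmk0, ← hσ]; exact hq
      obtain ⟨e, d, hd⟩ := hP.ker 1 _ h
      have h2 := congrArg cc hd
      have h0 : cc (C (PowerSeries.X ^ 1)) = 0 := by simp [cc]
      simp only [hccσ, map_add, map_sum, map_mul, h0, zero_mul, add_zero] at h2
      rw [h2]
      exact Ideal.sum_mem _ fun i _ => Ideal.mul_mem_left _ _ (Ideal.subset_span ⟨i, rfl⟩)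
    · rintro _ ⟨i, rfl⟩
      rw [SetLike.mem_coe, RingHom.mem_ker]
      show φ₁ (cc (p 1 i)) = 0
      rw [hφcc, hmk0]
      simpa using hP.zero 1 i
  have hreg₁ : IsWeaklyRegular (MvPolynomial (Fin r) k) (List.ofFn fun i => cc (p 1 i)) := by
    let Q₀ := Ideal.span {algebraMap (PowerSeries k) A PowerSeries.X ^ (0 + 1)}
    let e : MvPolynomial (Fin r) k →+* A ⧸ Q₀ :=
      (Ideal.Quotient.mk Q₀).comp ((algebraMap _ A).comp σ)
    have hQ : ∀ x, x ∈ Q₀ ↔ algebraMap _ A s ^ 1 ∣ x := fun x => by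
      rw [Ideal.mem_span_singleton, hτ]
    have hes : ∀ q, e (cc q) = Ideal.Quotient.mk Q₀ (algebraMap _ A q) := fun q => by
      show Ideal.Quotient.mk Q₀ (algebraMap _ A (σ (cc q))) = _
      rw [eq_comm, Ideal.Quotient.mk_eq_mk_iff_sub_mem, hQ, ← map_sub, pow_one]
      exact map_dvd _ (hcc q)
    have he : Function.Bijective e := by
      refine ⟨(injective_iff_map_eq_zero e).2 fun q hq => ?_, fun x => ?_⟩
      · have h := dvd_of_dvd_algebraMap s ((hQ _).1 (Ideal.Quotient.eq_zero_iff_mem.1 hq))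
        rw [pow_one] at h
        obtain ⟨d, hd⟩ := h
        rw [← hccσ q, hd, map_mul, show cc s = 0 by simp [cc, hs], zero_mul]
      · obtain ⟨y, rfl⟩ := Ideal.Quotient.mk_surjective x
        obtain ⟨q, hq⟩ := exists_approx s 1 y
        refine ⟨cc q, ?_⟩
        rw [hes, eq_comm, Ideal.Quotient.mk_eq_mk_iff_sub_mem, hQ]
        exact hq
    refine ((RingEquiv.ofBijective e he).toAddEquiv.isWeaklyRegular_congr ?_).2 hreg
    rw [List.map_ofFn, List.forall₂_iff_get]
    refine ⟨by simp, fun n h1 h2 x => ?_⟩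
    simp only [List.get_ofFn, Function.comp_apply, Fin.cast_mk, RingEquiv.toAddEquiv_eq_coe, RingEquiv.coe_toAddEquiv, RingEquiv.ofBijective_apply,
      smul_eq_mul, map_mul, List.get_eq_getElem, List.getElem_ofFn, hes]
    congr 1
    rw [eq_comm, Ideal.Quotient.mk_eq_mk_iff_sub_mem, hQ]
    exact hp 1 _
  have h := jac_injective φ₁ (fun i => cc (p 1 i)) hsurj hreg₁ hker₁
  have hjac : ∀ i j, jac φ₁ (fun i => cc (p 1 i)) i j = mk (J i j) := fun i j => by
    show φ₁ (pderiv j (cc (p 1 i))) = _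
    rw [show pderiv j (cc (p 1 i)) = cc (pderiv j (p 1 i)) from pderiv_map, hφcc, eq_comm, hmk,
      Ideal.Quotient.mk_eq_mk_iff_sub_mem, Ideal.mem_span_singleton]
    simpa using hJ 1 i j
  have h2 : (fun i => mk (v i)) = (0 : Fin c → B₁) := h (by
    rw [map_zero]
    funext j
    rw [Matrix.vecMulLinear_apply, Pi.zero_apply]
    have h3 := (hmk0 _).2 (hv j)
    rw [← h3]
    simp [Matrix.vecMul, dotProduct, hjac])
  exact (hmk0 _).1 (congrFun h2 i)

open MvPolynomial in
theorem exists_formalPres (k : Type u) [Field k] [PerfectField k] (r c : ℕ)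
    (a : Fin c → AdicCompletion (Ideal.span {MvPolynomial.C (σ := Fin r) (PowerSeries.X (R := k))}) (MvPolynomial (Fin r) (PowerSeries k)))
    (B : Type u) [CommRing B] [Algebra (PowerSeries k) B]
    [IsAdicComplete (Ideal.span {algebraMap (PowerSeries k) B PowerSeries.X}) B]
    [Module.Flat (PowerSeries k) B]
    (ψ : AdicCompletion (Ideal.span {MvPolynomial.C (σ := Fin r) (PowerSeries.X (R := k))}) (MvPolynomial (Fin r) (PowerSeries k)) →ₐ[PowerSeries k] B)
    (hψ : Function.Surjective ψ) (hker : RingHom.ker ψ.toRingHom = Ideal.span (Set.range a))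
    (hreg : IsWeaklyRegular
      (AdicCompletion (Ideal.span {MvPolynomial.C (σ := Fin r) (PowerSeries.X (R := k))}) (MvPolynomial (Fin r) (PowerSeries k)) ⧸
        Ideal.span {algebraMap (PowerSeries k) (AdicCompletion (Ideal.span {MvPolynomial.C (σ := Fin r) (PowerSeries.X (R := k))}) (MvPolynomial (Fin r) (PowerSeries k))) PowerSeries.X ^ (0 + 1)})
      ((List.ofFn a).map (Ideal.Quotient.mk (Ideal.span {algebraMap (PowerSeries k)
        (AdicCompletion (Ideal.span {MvPolynomial.C (σ := Fin r) (PowerSeries.X (R := k))}) (MvPolynomial (Fin r) (PowerSeries k))) PowerSeries.X ^ (0 + 1)}))))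
    [IsReduced (B ⧸ Ideal.span {algebraMap (PowerSeries k) B PowerSeries.X})] :
    ∃ (φ : MvPolynomial (Fin r) (PowerSeries k) →ₐ[PowerSeries k] B)
      (p : ℕ → Fin c → MvPolynomial (Fin r) (PowerSeries k)) (J : Matrix (Fin c) (Fin r) B),
      IsFormalPres PowerSeries.X φ (algebraMap (PowerSeries k) B PowerSeries.X) p ∧
      (∀ m i j, algebraMap (PowerSeries k) B PowerSeries.X ^ m ∣ J i j - φ (pderiv j (p m i))) ∧
      algebraMap (PowerSeries k) B PowerSeries.X ∈ nonZeroDivisors B ∧
      (∀ v : Fin c → B, (∀ j, algebraMap (PowerSeries k) B PowerSeries.X ∣ Matrix.vecMul v J j) →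
        ∀ i, algebraMap (PowerSeries k) B PowerSeries.X ∣ v i) :=
  exists_formalPres' k r c _ rfl a B ψ hψ hker hreg

end GrothLib.JacExt1
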